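import Cfsg.Agent.H902.SameD
import Cfsg.Agent.H700.DM.Defs

/-!
# S4907, task DM14: equal characteristic, orders up to the centres

The argument of `Cfsg.Agent.H902.Art.same_char` (helper902) for two orders `M`, `M'` with `M' z = M z'`,
`z' ∣ dd X`, `z ∣ dd Y`.
-/

set_option autoImplicit false

namespace Cfsg.Agent.H396.DM

open Finset Cfsg.Agent.H902.Art Cfsg.Agent.H902.Lte Cfsg.Agent.Lib.Zsigmondy

section

variable {X : Sh} {p f M : ℕ}

/-- the possible orders of `p` modulo a prime divisor of `num` -/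
theorem order_cases_num (h : Real X p f M) {r : ℕ} (hr : r.Prime) (hn : r ∣ num X (p ^ f)) :
    orderOf (p : ZMod r) ∣ f * DM X ∨ ∃ e, 1 ≤ e ∧ e ≤ BM X ∧ orderOf (p : ZMod r) ∣ f * e := by
  have hp := h.hp
  have hok := h.ok
  have hs : ∀ k : ℕ, r ∣ (p ^ f) ^ k - 1 → orderOf (p : ZMod r) ∣ f * k := fun k => (dvd_iff hp k).1
  have ha : ∀ k : ℕ, r ∣ (p ^ f) ^ k + 1 → orderOf (p : ZMod r) ∣ f * (2 * k) := fun k => dvd_of_add hp
  have h1 : r ∣ p ^ f - 1 → orderOf (p : ZMod r) ∣ f * 1 := by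
    intro h2; apply hs; rwa [pow_one]
  have big : ∀ e : ℕ, 1 ≤ e → (e = DM X ∨ e ≤ BM X) → orderOf (p : ZMod r) ∣ f * e →
      orderOf (p : ZMod r) ∣ f * DM X ∨ ∃ e, 1 ≤ e ∧ e ≤ BM X ∧ orderOf (p : ZMod r) ∣ f * e := by
    intro e he h2 h3
    rcases h2 with rfl | h2
    · exact Or.inl h3
    · exact Or.inr ⟨e, he, h2, h3⟩
  have hprod : ∀ (n : ℕ) (g : ℕ → ℕ), r ∣ ∏ i ∈ range n, g i → ∃ i, i < n ∧ r ∣ g i := by
    intro n g hg
    obtain ⟨i, hi, hd⟩ := (hr.prime.dvd_finsetProd_iff g).1 hg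
    exact ⟨i, mem_range.1 hi, hd⟩
  cases X with
  | L n =>
    have hn2 : 2 ≤ n := hok.1
    obtain ⟨i, hi, h2⟩ := hprod _ _ hn
    exact big (i + 2) (by omega) (by show i + 2 = n ∨ i + 2 ≤ n - 1; omega) (hs _ h2)
  | C m =>
    have hm : 2 ≤ m := hok.1
    obtain ⟨i, hi, h2⟩ := hprod _ _ hn
    exact big (2 * (i + 1)) (by omega) (by show 2 * (i + 1) = 2 * m ∨ 2 * (i + 1) ≤ 2 * (m - 1); omega) (hs _ h2)
  | U n =>
    have hn3 : 3 ≤ n := hok.1
    obtain ⟨i, hi, h2⟩ := hprod _ _ hn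
    have hDM : DM (.U n) = if Even n then 2 * (n - 1) else 2 * n := rfl
    have hBM : BM (.U n) = if Even n then (if n = 4 then 4 else 2 * (n - 3)) else 2 * (n - 2) := rfl
    by_cases hei : Even i
    · rw [if_pos hei] at h2
      refine big (i + 2) (by omega) ?_ (hs _ h2)
      right
      rw [hBM]
      obtain ⟨j, hj⟩ := hei
      split_ifs with h3 h4
      · omega
      · obtain ⟨k, hk⟩ := h3; omega
      · have := Nat.not_even_iff_odd.1 h3; obtain ⟨k, hk⟩ := this; omega
    · rw [if_neg hei] at h2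
      refine big (2 * (i + 2)) (by omega) ?_ (ha _ h2)
      rw [hBM, hDM]
      obtain ⟨j, hj⟩ := Nat.not_even_iff_odd.1 hei
      split_ifs with h3 h4
      · omega
      · obtain ⟨k, hk⟩ := h3; omega
      · have := Nat.not_even_iff_odd.1 h3; obtain ⟨k, hk⟩ := this; omega
  | D m =>
    have hm : 4 ≤ m := hok
    rcases hr.dvd_mul.1 hn with h2 | h2
    · exact big m (by omega) (by show m = 2 * (m - 1) ∨ m ≤ 2 * (m - 2); omega) (hs _ h2)
    · obtain ⟨i, hi, h2⟩ := hprod _ _ h2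
      exact big (2 * (i + 1)) (by omega) (by show 2 * (i + 1) = 2 * (m - 1) ∨ 2 * (i + 1) ≤ 2 * (m - 2); omega) (hs _ h2)
  | DD m =>
    have hm : 4 ≤ m := hok
    rcases hr.dvd_mul.1 hn with h2 | h2
    · exact big (2 * m) (by omega) (Or.inl rfl) (ha _ h2)
    · obtain ⟨i, hi, h2⟩ := hprod _ _ h2
      exact big (2 * (i + 1)) (by omega) (by show 2 * (i + 1) = 2 * m ∨ 2 * (i + 1) ≤ 2 * (m - 1); omega) (hs _ h2)
  | G2 =>
    rcases hr.dvd_mul.1 hn with h2 | h2
    · exact big 2 (by norm_num) (by decide) (hs _ h2)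
    · exact big 6 (by norm_num) (by decide) (hs _ h2)
  | F4 =>
    rcases hr.dvd_mul.1 hn with hn | h2
    · rcases hr.dvd_mul.1 hn with hn | h2
      · rcases hr.dvd_mul.1 hn with h2 | h2
        · exact big 2 (by norm_num) (by decide) (hs _ h2)
        · exact big 6 (by norm_num) (by decide) (hs _ h2)
      · exact big 8 (by norm_num) (by decide) (hs _ h2)
    · exact big 12 (by norm_num) (by decide) (hs _ h2)
  | E6 =>
    rcases hr.dvd_mul.1 hn with hn | h2
    · rcases hr.dvd_mul.1 hn with hn | h2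
      · rcases hr.dvd_mul.1 hn with hn | h2
        · rcases hr.dvd_mul.1 hn with hn | h2
          · rcases hr.dvd_mul.1 hn with h2 | h2
            · exact big 2 (by norm_num) (by decide) (hs _ h2)
            · exact big 5 (by norm_num) (by decide) (hs _ h2)
          · exact big 6 (by norm_num) (by decide) (hs _ h2)
        · exact big 8 (by norm_num) (by decide) (hs _ h2)
      · exact big 9 (by norm_num) (by decide) (hs _ h2)
    · exact big 12 (by norm_num) (by decide) (hs _ h2)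
  | E7 =>
    rcases hr.dvd_mul.1 hn with hn | h2
    · rcases hr.dvd_mul.1 hn with hn | h2
      · rcases hr.dvd_mul.1 hn with hn | h2
        · rcases hr.dvd_mul.1 hn with hn | h2
          · rcases hr.dvd_mul.1 hn with hn | h2
            · rcases hr.dvd_mul.1 hn with h2 | h2
              · exact big 2 (by norm_num) (by decide) (hs _ h2)
              · exact big 6 (by norm_num) (by decide) (hs _ h2)
            · exact big 8 (by norm_num) (by decide) (hs _ h2)
          · exact big 10 (by norm_num) (by decide) (hs _ h2)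
        · exact big 12 (by norm_num) (by decide) (hs _ h2)
      · exact big 14 (by norm_num) (by decide) (hs _ h2)
    · exact big 18 (by norm_num) (by decide) (hs _ h2)
  | E8 =>
    rcases hr.dvd_mul.1 hn with hn | h2
    · rcases hr.dvd_mul.1 hn with hn | h2
      · rcases hr.dvd_mul.1 hn with hn | h2
        · rcases hr.dvd_mul.1 hn with hn | h2
          · rcases hr.dvd_mul.1 hn with hn | h2
            · rcases hr.dvd_mul.1 hn with hn | h2
              · rcases hr.dvd_mul.1 hn with h2 | h2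
                · exact big 2 (by norm_num) (by decide) (hs _ h2)
                · exact big 8 (by norm_num) (by decide) (hs _ h2)
              · exact big 12 (by norm_num) (by decide) (hs _ h2)
            · exact big 14 (by norm_num) (by decide) (hs _ h2)
          · exact big 18 (by norm_num) (by decide) (hs _ h2)
        · exact big 20 (by norm_num) (by decide) (hs _ h2)
      · exact big 24 (by norm_num) (by decide) (hs _ h2)
    · exact big 30 (by norm_num) (by decide) (hs _ h2)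
  | TE6 =>
    rcases hr.dvd_mul.1 hn with hn | h2
    · rcases hr.dvd_mul.1 hn with hn | h2
      · rcases hr.dvd_mul.1 hn with hn | h2
        · rcases hr.dvd_mul.1 hn with hn | h2
          · rcases hr.dvd_mul.1 hn with h2 | h2
            · exact big 2 (by norm_num) (by decide) (hs _ h2)
            · exact big (2 * 5) (by norm_num) (by decide) (ha _ h2)
          · exact big 6 (by norm_num) (by decide) (hs _ h2)
        · exact big 8 (by norm_num) (by decide) (hs _ h2)
      · exact big (2 * 9) (by norm_num) (by decide) (ha _ h2)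
    · exact big 12 (by norm_num) (by decide) (hs _ h2)
  | TD4 =>
    rcases hr.dvd_mul.1 hn with hn | h2
    · rcases hr.dvd_mul.1 hn with h2 | h2
      · exact big 2 (by norm_num) (by decide) (hs _ h2)
      · exact big 6 (by norm_num) (by decide) (hs _ h2)
    · exact big 12 (by norm_num) (by decide) (hs _ (h2.trans (dvd_twelve h.q_ge)))
  | Sz =>
    rcases hr.dvd_mul.1 hn with h2 | h2
    · exact big 1 (by norm_num) (by decide) (h1 h2)
    · exact big (2 * 2) (by norm_num) (by decide) (ha _ h2)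
  | Ree =>
    rcases hr.dvd_mul.1 hn with h2 | h2
    · exact big 1 (by norm_num) (by decide) (h1 h2)
    · exact big (2 * 3) (by norm_num) (by decide) (ha _ h2)
  | TF4 =>
    rcases hr.dvd_mul.1 hn with hn | h2
    · rcases hr.dvd_mul.1 hn with hn | h2
      · rcases hr.dvd_mul.1 hn with h2 | h2
        · exact big 1 (by norm_num) (by decide) (h1 h2)
        · exact big (2 * 3) (by norm_num) (by decide) (ha _ h2)
      · exact big 4 (by norm_num) (by decide) (hs _ h2)
    · exact big (2 * 6) (by norm_num) (by decide) (ha _ h2)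


end

section

variable {X Y : Sh} {p f g M M' e e' : ℕ}

theorem pos_of_dvd (hX : Real X p f M) (he : e ∣ dd X (p ^ f)) : 1 ≤ e :=
  Nat.pos_of_ne_zero fun h0 => hX.dd_ne (by rw [h0] at he; exact Nat.eq_zero_of_zero_dvd he)

theorem le_dd (hX : Real X p f M) (he : e ∣ dd X (p ^ f)) : e ≤ dd X (p ^ f) :=
  Nat.le_of_dvd (Nat.pos_of_ne_zero hX.dd_ne) he

theorem specA_false' (hX : Real X p f M) (hY : Real Y p g M') (he : e ∣ dd X (p ^ f)) (he' : e' ∣ dd Y (p ^ g))
    (hc : e' * num X (p ^ f) = e * num Y (p ^ g))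
    (hD : f * DM X = g * DM Y) (h : SpecA X Y) : False := by
  have hqX := hX.q_ge
  have hqY := hY.q_ge
  have hf := hX.hf
  have hg := hY.hf
  have ha : 1 ≤ e' := pos_of_dvd hY he'
  have hb0 := le_dd hX he
  rcases h with ⟨n, hn, rfl, rfl⟩ | ⟨rfl, rfl⟩ | ⟨rfl, rfl⟩ | ⟨rfl, rfl⟩ | ⟨rfl, rfl⟩
  · have h1 : f = 2 * g := by
      have h2 : f * n = g * (2 * n) := hD
      have h3 : f * n = (2 * g) * n := by rw [h2]; ring
      exact Nat.eq_of_mul_eq_mul_right (by omega) h3
    subst h1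
    have hb : e ≤ n := hb0.trans (Nat.gcd_le_left _ (by omega))
    have hq : p ^ (2 * g) = (p ^ g) ^ 2 := by rw [mul_comm, pow_mul]
    rw [hq] at hc
    clear he he' hb0
    set q := p ^ g with hqdef
    set A := ∏ i ∈ range (n - 1), (q ^ (2 * (i + 1)) - 1) with hA
    have hA0 : 0 < A := Nat.pos_of_ne_zero (Finset.prod_ne_zero_iff.2 fun i _ => sub_one_ne hqY (by omega))
    have h2 : num (.L n) (q ^ 2) * (q ^ 2 - 1) = A * (q ^ (2 * n) - 1) := by
      have h3 : ∏ i ∈ range n, (q ^ (2 * (i + 1)) - 1) = num (.L n) (q ^ 2) * (q ^ 2 - 1) := by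
        obtain ⟨k, rfl⟩ := Nat.exists_eq_add_of_le' (show 1 ≤ n by omega)
        rw [Finset.prod_range_succ']
        show _ = (∏ i ∈ range k, ((q ^ 2) ^ (i + 2) - 1)) * (q ^ 2 - 1)
        congr 1
        apply Finset.prod_congr rfl
        intro i _
        rw [← pow_mul q 2 (i + 2)]
      have h4 : ∏ i ∈ range n, (q ^ (2 * (i + 1)) - 1) = A * (q ^ (2 * n) - 1) := by
        obtain ⟨k, rfl⟩ := Nat.exists_eq_add_of_le' (show 1 ≤ n by omega)
        rw [Finset.prod_range_succ, hA]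
        rfl
      rw [← h3, h4]
    have h5 : num (.DD n) q = (q ^ n + 1) * A := rfl
    have h6 : q ^ (2 * n) - 1 = (q ^ n - 1) * (q ^ n + 1) := by
      have g1 : 1 ≤ q ^ n := Nat.one_le_pow _ _ (by omega)
      have g2 : 1 ≤ q ^ (2 * n) := Nat.one_le_pow _ _ (by omega)
      zify [g1, g2]; ring
    have h7 : e' * (q ^ n - 1) = e * (q ^ 2 - 1) := by
      apply Nat.eq_of_mul_eq_mul_left (show 0 < A * (q ^ n + 1) by positivity)
      calc A * (q ^ n + 1) * (e' * (q ^ n - 1)) = e' * (A * ((q ^ n - 1) * (q ^ n + 1))) := by ring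
        _ = e' * (num (.L n) (q ^ 2) * (q ^ 2 - 1)) := by rw [h2, h6]
        _ = (e' * num (.L n) (q ^ 2)) * (q ^ 2 - 1) := by ring
        _ = (e * num (.DD n) q) * (q ^ 2 - 1) := by rw [hc]
        _ = A * (q ^ n + 1) * (e * (q ^ 2 - 1)) := by rw [h5]; ring
    have h8 : e * (q ^ 2 - 1) ≤ n * (q ^ 2 - 1) := Nat.mul_le_mul_right _ hb
    have h9 : q ^ n - 1 ≤ e' * (q ^ n - 1) := Nat.le_mul_of_pos_left _ ha
    have h10 : n ≤ q ^ (n - 2) := by
      exact (le_two_pow_sub hn).trans (Nat.pow_le_pow_left hqY _)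
    have h11 : q ^ n = q ^ (n - 2) * q ^ 2 := by rw [← pow_add]; congr 1; omega
    have h12 : q ^ (n - 2) * (q ^ 2 - 1) + q ^ (n - 2) = q ^ n := by
      rw [h11]
      have g1 : 1 ≤ q ^ 2 := Nat.one_le_pow _ _ (by omega)
      zify [g1]; ring
    have h13 : n * (q ^ 2 - 1) ≤ q ^ (n - 2) * (q ^ 2 - 1) := Nat.mul_le_mul_right _ h10
    omega
  · have h1 : f = 2 * g := by
      have h2 : f * 3 = g * 6 := hD
      omega
    subst h1
    have hb : e = 1 ∨ e = 3 := (Nat.dvd_prime Nat.prime_three).1 (he.trans (Nat.gcd_dvd_left _ _))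
    have hq : p ^ (2 * g) = (p ^ g) ^ 2 := by rw [mul_comm, pow_mul]
    rw [hq] at hc
    exact ar_L3U4 hqY (a := e') (b := e) ha hb (by
      have e1 : num (.L 3) ((p ^ g) ^ 2) = (((p ^ g) ^ 2) ^ 2 - 1) * (((p ^ g) ^ 2) ^ 3 - 1) := by
        show ∏ i ∈ range 2, (((p ^ g) ^ 2) ^ (i + 2) - 1) = _
        rw [Finset.prod_range_succ, Finset.prod_range_one]
      have e2 : num (.U 4) (p ^ g) = ((p ^ g) ^ 2 - 1) * ((p ^ g) ^ 3 + 1) * ((p ^ g) ^ 4 - 1) := by
        show ∏ i ∈ range 3, (if Even i then (p ^ g) ^ (i + 2) - 1 else (p ^ g) ^ (i + 2) + 1) = _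
        rw [Finset.prod_range_succ, Finset.prod_range_succ, Finset.prod_range_one]
        simp
      rw [e1, e2] at hc
      exact hc)
  · have h1 : f = 2 * g := by
      have h2 : f * 6 = g * 12 := hD
      omega
    subst h1
    have hb : e ≤ 4 := hb0.trans (gcd4_le _)
    have hq : p ^ (2 * g) = (p ^ g) ^ 2 := by rw [mul_comm, pow_mul]
    rw [hq] at hc
    exact ar_D4F4 hqY (b := e) hb (by
      have e1 : num (.D 4) ((p ^ g) ^ 2) = (((p ^ g) ^ 2) ^ 4 - 1) * ((((p ^ g) ^ 2) ^ 2 - 1) *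
          (((p ^ g) ^ 2) ^ 4 - 1) * (((p ^ g) ^ 2) ^ 6 - 1)) := by
        show (((p ^ g) ^ 2) ^ 4 - 1) * ∏ i ∈ range 3, (((p ^ g) ^ 2) ^ (2 * (i + 1)) - 1) = _
        rw [Finset.prod_range_succ, Finset.prod_range_succ, Finset.prod_range_one]
      have e2 : e' = 1 := Nat.dvd_one.1 he'
      rw [e1, e2, one_mul] at hc
      exact hc)
  · have h1 : f = 3 * g := by
      have h2 : f * 6 = g * 18 := hD
      omega
    subst h1
    have hb : e ≤ 4 := hb0.trans (gcd4_le _)
    have hq : p ^ (3 * g) = (p ^ g) ^ 3 := by rw [mul_comm, pow_mul]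
    rw [hq] at hc
    exact ar_D4TE6 hqY (a := e') (b := e) ha hb (by
      have e1 : num (.D 4) ((p ^ g) ^ 3) = (((p ^ g) ^ 3) ^ 4 - 1) * ((((p ^ g) ^ 3) ^ 2 - 1) *
          (((p ^ g) ^ 3) ^ 4 - 1) * (((p ^ g) ^ 3) ^ 6 - 1)) := by
        show (((p ^ g) ^ 3) ^ 4 - 1) * ∏ i ∈ range 3, (((p ^ g) ^ 3) ^ (2 * (i + 1)) - 1) = _
        rw [Finset.prod_range_succ, Finset.prod_range_succ, Finset.prod_range_one]
      rw [e1] at hc
      exact hc)
  · have h2 : f * 12 = g * 18 := hD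
    obtain ⟨k, hk⟩ : ∃ k, g = 2 * k := ⟨g / 2, by omega⟩
    have h1 : f = 3 * k := by omega
    subst h1 hk
    have hp := hX.hp
    have hq3 : p ^ (3 * k) = (p ^ k) ^ 3 := by rw [mul_comm, pow_mul]
    have hq2 : p ^ (2 * k) = (p ^ k) ^ 2 := by rw [mul_comm, pow_mul]
    have hk1 : 1 ≤ k := by omega
    have ht : 2 ≤ p ^ k := hp.two_le.trans (Nat.le_self_pow (by omega) p)
    have e2 : dd .TE6 ((p ^ k) ^ 2) = 1 := by
      show Nat.gcd 3 ((p ^ k) ^ 2 + 1) = 1
      rcases gcd3 ((p ^ k) ^ 2 + 1) with h | h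
      · exact h
      · exfalso
        have h3 : 3 ∣ (p ^ k) ^ 2 + 1 := by rw [← h]; exact Nat.gcd_dvd_right _ _
        have h4 : (p ^ k) % 3 = 0 ∨ (p ^ k) % 3 = 1 ∨ (p ^ k) % 3 = 2 := by omega
        have h5 : ((p ^ k) ^ 2 + 1) % 3 = 0 := Nat.mod_eq_zero_of_dvd h3
        rcases h4 with h4 | h4 | h4 <;> rw [Nat.add_mod, Nat.pow_mod, h4] at h5 <;> norm_num at h5
    rw [hq2, e2] at he'
    have e1 : e = 1 := Nat.dvd_one.1 he
    have e3 : e' = 1 := Nat.dvd_one.1 he'
    rw [hq3, hq2] at hc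
    rw [e1, e3, one_mul, one_mul] at hc
    exact ar_F4TE6 ht hc

theorem specB_false' (hX : Real X p f M) (hY : Real Y p g M') (he : e ∣ dd X (p ^ f)) (he' : e' ∣ dd Y (p ^ g))
    (hc : e' * num X (p ^ f) = e * num Y (p ^ g))
    (hD : f * DM X = g * DM Y) (h : SpecB X Y) : False := by
  have hqX := hX.q_ge
  have hqY := hY.q_ge
  have hf := hX.hf
  have hg := hY.hf
  have hp := hX.hp
  have ha : 1 ≤ e' := pos_of_dvd hY he'
  have hb0 := le_dd hX he
  have eL2 : ∀ q, num (.L 2) q = q ^ 2 - 1 := by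
    intro q
    show ∏ i ∈ range 1, (q ^ (i + 2) - 1) = _
    rw [Finset.prod_range_one]
  have eU3 : ∀ q, num (.U 3) q = (q ^ 2 - 1) * (q ^ 3 + 1) := by
    intro q
    show ∏ i ∈ range 2, (if Even i then q ^ (i + 2) - 1 else q ^ (i + 2) + 1) = _
    rw [Finset.prod_range_succ, Finset.prod_range_one]
    simp
  have eC2 : ∀ q, num (.C 2) q = (q ^ 2 - 1) * (q ^ 4 - 1) := by
    intro q
    show ∏ i ∈ range 2, (q ^ (2 * (i + 1)) - 1) = _
    rw [Finset.prod_range_succ, Finset.prod_range_one]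
  have dL2 : ∀ q, dd (.L 2) q ≤ 2 := fun q => Nat.gcd_le_left _ (by norm_num)
  have dC2 : ∀ q, dd (.C 2) q ≤ 2 := fun q => Nat.gcd_le_left _ (by norm_num)
  have dU3 : ∀ q, dd (.U 3) q ≤ 3 := fun q => Nat.gcd_le_left _ (by norm_num)
  have pw : ∀ a b : ℕ, p ^ (a * b) = (p ^ b) ^ a := fun a b => by rw [mul_comm, pow_mul]
  rcases h with ⟨rfl, rfl⟩ | ⟨rfl, rfl⟩ | ⟨rfl, rfl⟩ | ⟨rfl, rfl⟩ | ⟨rfl, rfl⟩ | ⟨rfl, rfl⟩ | ⟨rfl, rfl⟩ | ⟨rfl, rfl⟩ |
    ⟨rfl, rfl⟩ | ⟨rfl, rfl⟩ | ⟨rfl, rfl⟩ | ⟨rfl, rfl⟩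
  · -- L2, U3
    have h2 : f * 2 = g * 6 := hD
    have h1 : f = 3 * g := by omega
    subst h1
    rw [pw, eL2, eU3] at hc
    exact ar_L2U3 hqY ha (hb0.trans (dL2 _)) hc
  · -- L2, Sz
    have h2 : f * 2 = g * 4 := hD
    have h1 : f = 2 * g := by omega
    subst h1
    have e3 : e' = 1 := Nat.dvd_one.1 he'
    rw [pw, eL2, e3, one_mul] at hc
    exact ar_L2Sz hqY (hb0.trans (dL2 _)) hc
  · -- L2, Ree
    have h2 : f * 2 = g * 6 := hD
    have h1 : f = 3 * g := by omega
    subst h1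
    have e3 : e' = 1 := Nat.dvd_one.1 he'
    rw [pw, eL2, e3, one_mul] at hc
    exact ar_L2Ree hqY (hb0.trans (dL2 _)) hc
  · -- U3, Ree
    have h2 : f * 6 = g * 6 := hD
    have h1 : f = g := by omega
    subst h1
    have e3 : e' = 1 := Nat.dvd_one.1 he'
    rw [eU3, e3, one_mul] at hc
    have hok : p = 3 ∧ Odd f ∧ 3 ≤ f := hY.ok
    refine ar_U3Ree ?_ (hb0.trans (dU3 _)) hc
    rw [hok.1]; exact Nat.le_self_pow (by omega) 3
  · -- U3, Sz
    have h2 : f * 6 = g * 4 := hD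
    obtain ⟨k, hk⟩ : ∃ k, g = 3 * k := ⟨g / 3, by omega⟩
    have h1 : f = 2 * k := by omega
    subst h1 hk
    have ht : 2 ≤ p ^ k := hp.two_le.trans (Nat.le_self_pow (by omega) p)
    have e3 : e' = 1 := Nat.dvd_one.1 he'
    rw [pw, pw, eU3, e3, one_mul] at hc
    exact ar_U3Sz ht (hb0.trans (dU3 _)) hc
  · -- Sz, Ree
    have h1 : p = 2 ∧ Odd f ∧ 3 ≤ f := hX.ok
    have h2 : p = 3 ∧ Odd g ∧ 3 ≤ g := hY.ok
    omega
  · -- C2, G2
    have h2 : f * 4 = g * 6 := hD
    obtain ⟨k, hk⟩ : ∃ k, g = 2 * k := ⟨g / 2, by omega⟩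
    have h1 : f = 3 * k := by omega
    subst h1 hk
    have ht : 2 ≤ p ^ k := hp.two_le.trans (Nat.le_self_pow (by omega) p)
    have e3 : e' = 1 := Nat.dvd_one.1 he'
    rw [pw, pw, eC2, e3, one_mul] at hc
    exact ar_C2G2 ht (hb0.trans (dC2 _)) hc
  · -- C2, TD4
    have h2 : f * 4 = g * 12 := hD
    have h1 : f = 3 * g := by omega
    subst h1
    have e3 : e' = 1 := Nat.dvd_one.1 he'
    rw [pw, eC2, e3, one_mul] at hc
    exact ar_C2TD4 hqY (hb0.trans (dC2 _)) hc
  · -- C2, TF4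
    have h2 : f * 4 = g * 12 := hD
    have h1 : f = 3 * g := by omega
    subst h1
    have e3 : e' = 1 := Nat.dvd_one.1 he'
    rw [pw, eC2, e3, one_mul] at hc
    exact ar_C2TF4 hqY (hb0.trans (dC2 _)) hc
  · -- G2, TD4
    have h2 : f * 6 = g * 12 := hD
    have h1 : f = 2 * g := by omega
    subst h1
    have e3 : e' = 1 := Nat.dvd_one.1 he'
    have e4 : e = 1 := Nat.dvd_one.1 he
    rw [pw, e3, e4, one_mul, one_mul] at hc
    exact ar_G2TD4 hqY hc
  · -- G2, TF4
    have h2 : f * 6 = g * 12 := hD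
    have h1 : f = 2 * g := by omega
    subst h1
    have e3 : e' = 1 := Nat.dvd_one.1 he'
    have e4 : e = 1 := Nat.dvd_one.1 he
    rw [pw, e3, e4, one_mul, one_mul] at hc
    exact ar_G2TF4 hqY hc
  · -- TD4, TF4
    have h2 : f * 12 = g * 12 := hD
    have h1 : f = g := by omega
    subst h1
    have e3 : e' = 1 := Nat.dvd_one.1 he'
    have e4 : e = 1 := Nat.dvd_one.1 he
    rw [e3, e4, one_mul, one_mul] at hc
    exact ar_TD4TF4 hqY hc

theorem dvd_num_other (hc : e' * num X (p ^ f) = e * num Y (p ^ g)) {r : ℕ}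
    (hr : r.Prime) (hre : ¬ r ∣ e) (hd : r ∣ num X (p ^ f)) : r ∣ num Y (p ^ g) := by
  have h1 : r ∣ e * num Y (p ^ g) := by rw [← hc]; exact hd.mul_left _
  exact (hr.dvd_mul.1 h1).resolve_left hre

theorem DM_le' (hX : Real X p f M) (hY : Real Y p g M') (he : e ∣ dd X (p ^ f))
    (hc : e' * num X (p ^ f) = e * num Y (p ^ g)) (h3 : 3 ≤ f * DM X) (h6 : ¬ (p = 2 ∧ f * DM X = 6)) :
    f * DM X ≤ g * DM Y := by
  obtain ⟨r, hr, ho⟩ := exists_prime_orderOf hX.hp.two_le (show 2 ≤ f * DM X by omega) (fun h => by omega) h6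
  have hrp : r ≠ p := ne_of_order hr (show 1 ≤ f * DM X by omega) ho
  have hd := hX.dvd_num_of_dvd hr hrp (hX.dvd_of_order_DM hr ho h3)
  have hgeX := DM_ge hX
  have hnd := hX.not_dvd_dd_of_order hr ho h3 hgeX.1 hgeX.2
  have hg := hY.hf
  have hge := DM_ge hY
  have hlt := BM_lt hY
  rcases order_cases_num hY hr (dvd_num_other hc hr (fun h => hnd (h.trans he)) hd) with h | ⟨e, he, heB, h⟩
  · rw [ho] at h
    exact Nat.le_of_dvd (Nat.mul_pos hg (by omega)) h
  · rw [ho] at h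
    exact (Nat.le_of_dvd (Nat.mul_pos hg he) h).trans (Nat.mul_le_mul_left _ (by omega))

theorem BU_ge (hX : Real X p f M) (hB : DM X < 2 * BM X) : (∃ n, X = .U n) → 3 ≤ BM X := by
  have hok := hX.ok
  rintro ⟨n, rfl⟩
  have hn : 3 ≤ n := hok.1
  have hBM : BM (.U n) = if Even n then (if n = 4 then 4 else 2 * (n - 3)) else 2 * (n - 2) := rfl
  have hDM : DM (.U n) = if Even n then 2 * (n - 1) else 2 * n := rfl
  rw [hBM, hDM] at hB
  rw [hBM]
  split_ifs at hB ⊢ with h1 h2
  · omega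
  · obtain ⟨k, hk⟩ := h1; omega
  · obtain ⟨k, hk⟩ := Nat.not_even_iff_odd.1 h1; omega

theorem BM_le' (hX : Real X p f M) (hY : Real Y p g M') (he : e ∣ dd X (p ^ f))
    (hc : e' * num X (p ^ f) = e * num Y (p ^ g)) (hB : DM X < 2 * BM X) (hDD : f * DM X = g * DM Y)
    (h3 : 3 ≤ f * BM X) (h6 : ¬ (p = 2 ∧ f * BM X = 6)) : f * BM X ≤ g * BM Y := by
  obtain ⟨r, hr, ho⟩ := exists_prime_orderOf hX.hp.two_le (show 2 ≤ f * BM X by omega) (fun h => by omega) h6
  have hrp : r ≠ p := ne_of_order hr (show 1 ≤ f * BM X by omega) ho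
  have hd := hX.dvd_num_of_dvd hr hrp (hX.dvd_of_order_BM hr hB ho h3)
  have hgeX := DM_ge hX
  have hnd := hX.not_dvd_dd_of_order hr ho h3 (by omega) (BU_ge hX hB)
  have hf := hX.hf
  have hg := hY.hf
  have hlt := BM_lt hX
  rcases order_cases_num hY hr (dvd_num_other hc hr (fun h => hnd (h.trans he)) hd) with h | ⟨e, he, heB, h⟩
  · exfalso
    rw [ho, ← hDD] at h
    obtain ⟨c, hc⟩ := Nat.dvd_of_mul_dvd_mul_left hf h
    have hc2 : c < 2 := by
      by_contra hcon
      have : BM X * 2 ≤ BM X * c := Nat.mul_le_mul_left _ (by omega)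
      omega
    have hc0 : c ≠ 0 := by rintro rfl; omega
    have hc1 : c = 1 := by omega
    rw [hc1] at hc
    omega
  · rw [ho] at h
    exact (Nat.le_of_dvd (Nat.mul_pos hg he) h).trans (Nat.mul_le_mul_left _ heB)

/-- the finite check in characteristic two -/
theorem fin_two' : ∀ v ∈ List.range' 1 21, ∀ a ∈ ents 2 v, ∀ b ∈ ents 2 v, ∀ e ∈ List.range (dd a.1 (2 ^ a.2) + 1),
    ∀ e' ∈ List.range (dd b.1 (2 ^ b.2) + 1), e ∣ dd a.1 (2 ^ a.2) → e' ∣ dd b.1 (2 ^ b.2) →
    e' * num a.1 (2 ^ a.2) = e * num b.1 (2 ^ b.2) → val 2 a = val 2 b := by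
  decide +kernel

end

section main

variable {X Y : Sh} {p f g M M' e e' : ℕ}

/-- **Equal characteristic, up to the centres.** -/
theorem same_core (hX : Real X p f M) (hY : Real Y p g M') (he : e ∣ dd X (p ^ f)) (he' : e' ∣ dd Y (p ^ g))
    (hc : e' * num X (p ^ f) = e * num Y (p ^ g)) (hN : f * NN X = g * NN Y) : (X = Y ∧ f = g) ∨ M = M' := by
  have hf := hX.hf
  have hg := hY.hf
  have hNX := NN_pos hX
  have hNY := NN_pos hY
  have hgeX := DM_ge hX
  have hgeY := DM_ge hY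
  -- small cases in characteristic two
  by_cases hsmall : p = 2 ∧ f * NN X ≤ 21
  · obtain ⟨rfl, hle⟩ := hsmall
    have h1 : f * NN X ∈ List.range' 1 21 := by
      rw [List.mem_range'_1]
      have : 1 ≤ f * NN X := Nat.mul_pos hf hNX
      omega
    have h2 := fin_two' _ h1 _ (mem_ents hX rfl) _ (mem_ents hY hN.symm) e
      (List.mem_range.2 (Nat.lt_succ_of_le (le_dd hX he))) e' (List.mem_range.2 (Nat.lt_succ_of_le (le_dd hY he')))
      he he' hc
    rw [val_eq hX, val_eq hY] at h2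
    exact Or.inr h2
  left
  -- exponent one
  by_cases h1 : f * NN X = 1
  · have h2 : NN X = 1 := by
      rcases Nat.lt_or_ge (NN X) 2 with h | h
      · omega
      · nlinarith
    have h3 : f = 1 := by rw [h2] at h1; omega
    rw [h1] at hN
    have h4 : NN Y = 1 := by
      rcases Nat.lt_or_ge (NN Y) 2 with h | h
      · omega
      · nlinarith
    have h5 : g = 1 := by rw [h4] at hN; omega
    exact ⟨by rw [NN_eq_one hX h2, NN_eq_one hY h4], by rw [h3, h5]⟩
  have h3X : 3 ≤ f * DM X := by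
    by_contra hcon
    have h2 : DM X ≤ 2 := by nlinarith
    have h3 := DM_eq_two hX h2
    have h4 : NN X = 1 := by rw [h3]; rfl
    have h5 : DM X = 2 := by rw [h3]; rfl
    rw [h5] at hcon
    have h6 : f = 1 := by omega
    rw [h4, h6] at h1
    exact h1 rfl
  have h3Y : 3 ≤ g * DM Y := by
    by_contra hcon
    have h2 : DM Y ≤ 2 := by nlinarith
    have h3 := DM_eq_two hY h2
    have h4 : NN Y = 1 := by rw [h3]; rfl
    have h5 : DM Y = 2 := by rw [h3]; rfl
    rw [h5] at hcon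
    have h6 : g = 1 := by omega
    rw [hN, h4, h6] at h1
    exact h1 rfl
  have h6X : ¬ (p = 2 ∧ f * DM X = 6) := fun h => hsmall ⟨h.1, bound_DM hX h.2⟩
  have h6Y : ¬ (p = 2 ∧ g * DM Y = 6) := fun h => hsmall ⟨h.1, by rw [hN]; exact bound_DM hY h.2⟩
  have hD : f * DM X = g * DM Y :=
    le_antisymm (DM_le' hX hY he hc h3X h6X) (DM_le' hY hX he' hc.symm h3Y h6Y)
  -- `kap` agrees
  have hk : kap X = kap Y := by
    have h2 := four_NN hX
    have h3 := four_NN hY
    have h4 : f * DM X * kap X = f * DM X * kap Y := by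
      calc f * DM X * kap X = f * (DM X * kap X) := by ring
        _ = 4 * (f * NN X) := by rw [← h2]; ring
        _ = 4 * (g * NN Y) := by rw [hN]
        _ = g * (DM Y * kap Y) := by rw [← h3]; ring
        _ = g * DM Y * kap Y := by ring
        _ = f * DM X * kap Y := by rw [hD]
    exact Nat.eq_of_mul_eq_mul_left (by omega) h4
  have fin : X = Y → X = Y ∧ f = g := by
    intro h
    refine ⟨h, ?_⟩
    rw [h] at hN
    exact Nat.eq_of_mul_eq_mul_right (by omega) hN
  have small3 : ∀ {Z : Sh} {k M : ℕ}, Real Z p k M → DM Z < 2 * BM Z → ¬ 3 ≤ k * BM Z → k = 1 ∧ Z = .L 3 := by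
    intro Z k M hZ hB hcon
    have hk := hZ.hf
    have hlt := BM_lt hZ
    have hge := DM_ge hZ
    have h2 : BM Z ≤ 2 := by nlinarith
    have h4 : BM Z = 2 := by omega
    have h5 : DM Z = 3 := by omega
    rw [h4] at hcon
    exact ⟨by omega, DM_eq_three hZ h5⟩
  by_cases hBX : DM X < 2 * BM X
  · by_cases h3B : 3 ≤ f * BM X
    · have h6B : ¬ (p = 2 ∧ f * BM X = 6) := fun h => hsmall ⟨h.1, bound_BM hX hBX h.2⟩
      have hle := BM_le' hX hY he hc hBX hD h3B h6B
      have hBY : DM Y < 2 * BM Y := by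
        have h5 : g * DM Y < g * (2 * BM Y) := by
          calc g * DM Y = f * DM X := hD.symm
            _ < f * (2 * BM X) := Nat.mul_lt_mul_of_pos_left hBX hf
            _ = 2 * (f * BM X) := by ring
            _ ≤ 2 * (g * BM Y) := Nat.mul_le_mul_left _ hle
            _ = g * (2 * BM Y) := by ring
        exact Nat.lt_of_mul_lt_mul_left h5
      have h3B' : 3 ≤ g * BM Y := h3B.trans hle
      have h6B' : ¬ (p = 2 ∧ g * BM Y = 6) := fun h => hsmall ⟨h.1, by rw [hN]; exact bound_BM hY hBY h.2⟩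
      have hle' := BM_le' hY hX he' hc.symm hBY hD.symm h3B' h6B'
      have hBB : f * BM X = g * BM Y := le_antisymm hle hle'
      have hltX := BM_lt hX
      have hltY := BM_lt hY
      have hdd : f * (DM X - BM X) = g * (DM Y - BM Y) := by
        rw [Nat.mul_sub, Nat.mul_sub, hD, hBB]
      have hcr : DM X * (DM Y - BM Y) = DM Y * (DM X - BM X) := by
        have h7 : f * g * (DM X * (DM Y - BM Y)) = f * g * (DM Y * (DM X - BM X)) := by
          calc f * g * (DM X * (DM Y - BM Y)) = (f * DM X) * (g * (DM Y - BM Y)) := by ring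
            _ = (g * DM Y) * (f * (DM X - BM X)) := by rw [hD, hdd]
            _ = f * g * (DM Y * (DM X - BM X)) := by ring
        exact Nat.eq_of_mul_eq_mul_left (Nat.mul_pos hf hg) h7
      rcases pairsA (typA hX hBX) (typA hY hBY) hk hcr with h | h | h
      · exact fin h
      · exact (specA_false' hX hY he he' hc hD h).elim
      · exact (specA_false' hY hX he' he hc.symm hD.symm h).elim
    · obtain ⟨h4, h5⟩ := small3 hX hBX h3B
      subst h4 h5
      have h6 : g * DM Y = 3 := by rw [← hD]; rfl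
      have h7 : g = 1 := by
        have : DM Y ∣ 3 := ⟨g, by rw [← h6]; ring⟩
        have h8 := (Nat.dvd_prime Nat.prime_three).1 this
        rcases h8 with h8 | h8
        · omega
        · rw [h8] at h6; omega
      rw [h7, one_mul] at h6
      exact ⟨(DM_eq_three hY h6).symm, h7.symm⟩
  · by_cases hBY : DM Y < 2 * BM Y
    · by_cases h3B : 3 ≤ g * BM Y
      · exfalso
        have h6B : ¬ (p = 2 ∧ g * BM Y = 6) := fun h => hsmall ⟨h.1, by rw [hN]; exact bound_BM hY hBY h.2⟩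
        have hle := BM_le' hY hX he' hc.symm hBY hD.symm h3B h6B
        apply hBX
        have h5 : f * DM X < f * (2 * BM X) := by
          calc f * DM X = g * DM Y := hD
            _ < g * (2 * BM Y) := Nat.mul_lt_mul_of_pos_left hBY hg
            _ = 2 * (g * BM Y) := by ring
            _ ≤ 2 * (f * BM X) := Nat.mul_le_mul_left _ hle
            _ = f * (2 * BM X) := by ring
        exact Nat.lt_of_mul_lt_mul_left h5
      · obtain ⟨h4, h5⟩ := small3 hY hBY h3B
        subst h4 h5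
        have h6 : f * DM X = 3 := by rw [hD]; rfl
        have h7 : f = 1 := by
          have : DM X ∣ 3 := ⟨f, by rw [← h6]; ring⟩
          have h8 := (Nat.dvd_prime Nat.prime_three).1 this
          rcases h8 with h8 | h8
          · omega
          · rw [h8] at h6; omega
        rw [h7, one_mul] at h6
        exact ⟨DM_eq_three hX h6, h7⟩
    · rcases pairsB (typB hX hBX) (typB hY hBY) hk with h | h | h
      · exact fin h
      · exact (specB_false' hX hY he he' hc hD h).elim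
      · exact (specB_false' hY hX he' he hc.symm hD.symm h).elim

/-- **DM14** (all shapes): equal characteristic, the same `p`-part, `M' z = M z'` with `z'`, `z` dividing the orders of the
centres of the simply connected groups: `M' = M`. -/
theorem same_eq' {z z' : ℕ} (h : Real X p f M) (h' : Real Y p g M')
    (hz' : z' ∣ dd X (p ^ f)) (hz : z ∣ dd Y (p ^ g)) (hP : M'.factorization p = M.factorization p)
    (hM : M' * z = M * z') : M' = M := by
  obtain ⟨e, he⟩ := hz'
  obtain ⟨e', he'⟩ := hz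
  have hz0 : 0 < z := Nat.pos_of_ne_zero fun h0 => h'.dd_ne (by rw [he', h0, zero_mul])
  have hz0' : 0 < z' := Nat.pos_of_ne_zero fun h0 => h.dd_ne (by rw [he, h0, zero_mul])
  have hN : f * NN X = g * NN Y := by rw [P_prime_exp h, P_prime_exp h', hP]
  have h3 : (p ^ f) ^ NN X = (p ^ g) ^ NN Y := by rw [← pow_mul, ← pow_mul, hN]
  have hA : 0 < (p ^ f) ^ NN X := pow_pos (by have := h.q_ge; omega) _
  have hM0 : 0 < M := Nat.pos_of_ne_zero h.M_ne
  have hc : e' * num X (p ^ f) = e * num Y (p ^ g) := by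
    apply Nat.eq_of_mul_eq_mul_left hA
    apply Nat.eq_of_mul_eq_mul_left (Nat.mul_pos hM0 hz0')
    calc M * z' * ((p ^ f) ^ NN X * (e' * num X (p ^ f)))
        = M' * z * (e' * ((p ^ f) ^ NN X * num X (p ^ f))) := by rw [hM]; ring
      _ = M' * z * (e' * (z' * e * M)) := by rw [← h.eq, he]
      _ = M * z' * (e * (z * e' * M')) := by ring
      _ = M * z' * (e * ((p ^ g) ^ NN Y * num Y (p ^ g))) := by rw [← he', h'.eq]
      _ = M * z' * ((p ^ f) ^ NN X * (e * num Y (p ^ g))) := by rw [h3]; ring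
  rcases same_core h h' ⟨z', by rw [he, mul_comm]⟩ ⟨z, by rw [he', mul_comm]⟩ hc hN with ⟨rfl, rfl⟩ | h5
  · apply Nat.eq_of_mul_eq_mul_left (Nat.pos_of_ne_zero h.dd_ne)
    rw [h.eq, h'.eq]
  · exact h5.symm

open Cfsg.Agent.H700.DM in
/-- **DM14** -/
theorem same_eq {z z' : ℕ} (_hX : IsCl X) (h : Real X p f M) (h' : Real Y p g M')
    (hz' : z' ∣ dd X (p ^ f)) (hz : z ∣ dd Y (p ^ g)) (hP : M'.factorization p = M.factorization p)
    (hM : M' * z = M * z') : M' = M := same_eq' h h' hz' hz hP hM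

end main

end Cfsg.Agent.H396.DM
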